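import Cfsg.Agent.ChevalleyStructure.E6Form.Table

/-!
# The isometry group of the cubic form is generated by the root elements

Let `G0` be a subgroup of `E6univ F` containing all root elements `1 + t N_r`. Then `E6univ F ≤ G0`, if `F` has an
element other than `0`, `1`. Proof by elimination: given `g ∈ E6univ F` and a set `W` of weights whose basis vectors
are fixed by `g`, and a further weight `l`, multiply `g` by elements of `G0` fixing `e_w` (`w ∈ W`) so that `e_l` is
fixed too. The vector `x = g e_l` is singular; if `x_l ≠ 0` the 16 roots `b - l` clear the coordinates at the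
collinear weights `b` (if such a root moves some `e_w` then `x_b = 0` already), and the other coordinates then
vanish since `x` is singular. The order in which the 27 weights are treated is checked by the kernel.
-/

set_option autoImplicit false

namespace Cfsg.Agent.ChevalleyStructure.E6Form.Elim

open Cfsg.Lie Cfsg.Agent.ChevalleyStructure.E6Form.Cubic Cfsg.Agent.ChevalleyStructure.E6Form.Table

universe u

variable {F : Type u} [Field F]

/-- The value of `ip` is `4`, `1` or `-2`. -/
theorem ip_cases (a b : I27) : (ip a b = 4 ∧ a = b) ∨ (ip a b = 1 ∧ a ≠ b ∧ nc a b = false) ∨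
    (ip a b = -2 ∧ a ≠ b ∧ nc a b = true) := by
  rw [ip]
  by_cases h : a = b
  · left; exact ⟨if_pos h, h⟩
  · by_cases h' : nc a b = true
    · right; right; exact ⟨by rw [if_neg h, if_pos h'], h, h'⟩
    · right; left; exact ⟨by rw [if_neg h, if_neg h'], h, by simpa using h'⟩

theorem e_apply (a b : I27) : e F a b = if b = a then 1 else 0 := by
  rw [e, Pi.single_apply]

/-! ### Effect of a root element on coordinates -/

theorem act_zG_target {r : ℕ} (hr : r < 72) {q : ℤ × I27 × I27} (hq : q ∈ tabr r) (t : F) (v : I27 → F) :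
    act (zG r t) v q.2.2 = v q.2.2 + t * ((q.1 : F) * v q.2.1) := by
  rw [act_zG, Pi.add_apply, Pi.smul_apply, smul_eq_mul, nv_target hr hq]

theorem act_zG_other {r : ℕ} {d : I27} (hd : ∀ q ∈ tabr r, q.2.2 ≠ d) (t : F) (v : I27 → F) :
    act (zG r t) v d = v d := by
  rw [act_zG, Pi.add_apply, Pi.smul_apply, smul_eq_mul, nv_other hd, mul_zero, add_zero]

/-- A root element fixes the basis vectors of the weights that are not sources. -/
theorem act_zG_e_of_not_source {r : ℕ} (hr : r < 72) {w : I27} (hw : ∀ q ∈ tabr r, q.2.1 ≠ w) (t : F) :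
    act (zG r t) (e F w) = e F w := by
  funext d
  by_cases hd : ∃ q ∈ tabr r, q.2.2 = d
  · obtain ⟨q, hq, rfl⟩ := hd
    rw [act_zG_target hr hq, e_ne (hw q hq)]; ring
  · push Not at hd
    exact act_zG_other hd t _

theorem act_zG_e_of_source {r : ℕ} (hr : r < 72) {q : ℤ × I27 × I27} (hq : q ∈ tabr r) (t : F) :
    act (zG r t) (e F q.2.1) = e F q.2.1 + (t * (q.1 : F)) • e F q.2.2 := by
  funext d
  rw [Pi.add_apply, Pi.smul_apply, smul_eq_mul]
  by_cases hd : ∃ q' ∈ tabr r, q'.2.2 = d
  · obtain ⟨q', hq', rfl⟩ := hd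
    rw [act_zG_target hr hq']
    by_cases h : q' = q
    · subst h; rw [e_self, e_self]; ring
    · rw [e_ne (a := q.2.1) (b := q'.2.1) (fun he => h ((((tab_facts hr hq').2.2.2) q hq).2.1 he)),
        e_ne (a := q.2.2) (b := q'.2.2) (fun he => h ((((tab_facts hr hq').2.2.2) q hq).2.2.1 he))]
      ring
  · push Not at hd
    rw [act_zG_other hd, e_ne (a := q.2.2) (b := d) (fun he => hd q hq he.symm)]; ring

/-! ### Clearing -/

/-- Clearing the coordinates at the weights collinear with `l`. -/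
theorem clear (K : Subgroup (GL I27 F)) (l : I27) (x : I27 → F) (hl : x l ≠ 0)
    (hK : ∀ r < 72, ∀ q ∈ tabr r, q.2.1 = l → x q.2.2 ≠ 0 → ∀ t : F, zG r t ∈ K) (L : List I27)
    (hL : ∀ b ∈ L, ip l b = 1) :
    ∃ h ∈ K, act h x l = x l ∧ (∀ b ∈ L, act h x b = 0) ∧ ∀ b, ip l b = 1 → b ∉ L → act h x b = x b := by
  induction L with
  | nil => exact ⟨1, K.one_mem, by rw [act_one], by simp, fun b _ _ => by rw [act_one]⟩
  | cons b L ih =>
    obtain ⟨h, hh, h1, h2, h3⟩ := ih fun b' hb' => hL b' (List.mem_cons_of_mem _ hb')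
    by_cases hb : act h x b = 0
    · refine ⟨h, hh, h1, ?_, fun b' hb' hn => h3 b' hb' fun hm => hn (List.mem_cons_of_mem _ hm)⟩
      intro b' hb'
      rcases List.mem_cons.1 hb' with rfl | hb'
      · exact hb
      · exact h2 b' hb'
    · have hbL : b ∉ L := fun hm => hb (h2 b hm)
      have hlb := hL b List.mem_cons_self
      have hxb : act h x b = x b := h3 b hlb hbL
      obtain ⟨r, hr, q, hq, hql, hqb⟩ := exists_root hlb
      obtain ⟨hs, -, -, hfa⟩ := tab_facts hr hq
      have hs0 : (q.1 : F) ≠ 0 := by rcases hs with hs | hs <;> rw [hs] <;> simp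
      have hlt : ∀ q' ∈ tabr r, q'.2.2 ≠ l := fun q' hq' he => (hfa q' hq').1 (hql.trans he.symm)
      refine ⟨zG r (-(x b) / ((q.1 : F) * x l)) * h,
        K.mul_mem (hK r hr q hq hql (by rw [hqb]; rwa [hxb] at hb) _) hh, ?_, ?_, ?_⟩
      · rw [act_mul, act_zG_other hlt, h1]
      · intro b' hb'
        rw [act_mul]
        rcases List.mem_cons.1 hb' with rfl | hb'
        · rw [← hqb, act_zG_target hr hq, hqb, hxb, hql, h1]
          field_simp
          ring
        · have hlb' := hL b' (List.mem_cons_of_mem _ hb')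
          rw [act_zG_other, h2 b' hb']
          intro q' hq' he
          obtain ⟨-, h5, -, h6⟩ := hfa q' hq'
          have h7 := h6 l
          rw [he, hqb, hql, hlb', hlb, ip_self] at h7
          have h8 : ip l q'.2.1 = 4 := by omega
          rcases ip_cases l q'.2.1 with h9 | h9 | h9
          · have := h5 (hql.trans h9.2)
            apply hbL
            rw [← hqb, this, he]
            exact hb'
          · omega
          · omega
      · intro b' hb' hn
        rw [List.mem_cons, not_or] at hn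
        rw [act_mul, act_zG_other, h3 b' hb' hn.2]
        intro q' hq' he
        obtain ⟨-, h5, -, h6⟩ := hfa q' hq'
        have h7 := h6 l
        rw [he, hqb, hql, hb', hlb, ip_self] at h7
        have h8 : ip l q'.2.1 = 4 := by omega
        rcases ip_cases l q'.2.1 with h9 | h9 | h9
        · have := h5 (hql.trans h9.2)
          exact hn.1 (by rw [← hqb, this, he])
        · omega
        · omega

/-- Elimination: a singular vector with `x l ≠ 0` can be moved to `x l • e l`. -/
theorem eliminate (hs : ∃ s : F, s ≠ 0 ∧ s ≠ 1) (K : Subgroup (GL I27 F)) (hKu : K ≤ E6univ F) (l : I27)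
    {x : I27 → F} (hx : Singular x) (hl : x l ≠ 0)
    (hK : ∀ r < 72, ∀ q ∈ tabr r, q.2.1 = l → x q.2.2 ≠ 0 → ∀ t : F, zG r t ∈ K) :
    ∃ h ∈ K, act h x = x l • e F l := by
  obtain ⟨h, hh, h1, h2, -⟩ := clear K l x hl hK (wts.filter fun b => ip l b == 1)
    (fun b hb => by simpa using (List.mem_filter.1 hb).2)
  have h2' : ∀ b, ip l b = 1 → act h x b = 0 := fun b hb =>
    h2 b (List.mem_filter.2 ⟨mem_wts b, by simpa using hb⟩)
  have hsing : Singular (act h x) := hx.mulVec hs (hKu hh)
  refine ⟨h, hh, ?_⟩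
  funext d
  rw [Pi.smul_apply, smul_eq_mul]
  rcases ip_cases l d with h3 | h3 | h3
  · rw [← h3.2, h1, e_self, mul_one]
  · rw [h2' d h3.1, e_ne (Ne.symm h3.2.1), mul_zero]
  · rw [hsing.eq_zero (by rwa [h1]) h2' h3.2.2, e_ne (Ne.symm h3.2.1), mul_zero]

/-! ### The torus -/

/-- `n_r(c)`. -/
def nG (r : ℕ) (c : F) : GL I27 F := zG r c * zG (71 - r) (-c⁻¹) * zG r c

/-- `h_r(c)`. -/
def hG (r : ℕ) (c : F) : GL I27 F := nG r c * nG r (-1)

theorem act_hG_e_of_not {r : ℕ} (hr : r < 72) {w : I27} (hw : ∀ q ∈ tabr r, q.2.1 ≠ w)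
    (hw' : ∀ q ∈ tabr r, q.2.2 ≠ w) (c : F) : act (hG r c) (e F w) = e F w := by
  have h1 : ∀ t : F, act (zG r t) (e F w) = e F w := act_zG_e_of_not_source hr hw
  have hr' : 71 - r < 72 := by omega
  have h2 : ∀ t : F, act (zG (71 - r) t) (e F w) = e F w := by
    refine act_zG_e_of_not_source hr' fun q hq he => ?_
    have := (tab_facts hr' hq).2.2.1
    rw [show 71 - (71 - r) = r by omega] at this
    exact hw' _ this he
  simp only [hG, nG, act_mul, h1, h2]

theorem act_nG_source {r : ℕ} (hr : r < 72) {q : ℤ × I27 × I27} (hq : q ∈ tabr r) {c : F} (hc : c ≠ 0) :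
    act (nG r c) (e F q.2.1) = (c * (q.1 : F)) • e F q.2.2 ∧
      act (nG r c) (e F q.2.2) = (-c⁻¹ * (q.1 : F)) • e F q.2.1 := by
  have hr' : 71 - r < 72 := by omega
  obtain ⟨hs, -, hq', hfa⟩ := tab_facts hr hq
  have hs2 : (q.1 : F) * (q.1 : F) = 1 := by rcases hs with hs | hs <;> rw [hs] <;> simp
  have ea : ∀ t : F, act (zG r t) (e F q.2.1) = e F q.2.1 + (t * (q.1 : F)) • e F q.2.2 :=
    act_zG_e_of_source hr hq
  have eb : ∀ t : F, act (zG r t) (e F q.2.2) = e F q.2.2 :=
    act_zG_e_of_not_source hr fun q' hq' he => ((tab_facts hr hq').2.2.2 q hq).1 he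
  have ea' : ∀ t : F, act (zG (71 - r) t) (e F q.2.1) = e F q.2.1 :=
    act_zG_e_of_not_source hr' fun q'' hq'' he => by
      have := ((tab_facts hr' hq'').2.2.2 _ hq').1
      exact this he
  have eb' : ∀ t : F, act (zG (71 - r) t) (e F q.2.2) = e F q.2.2 + (t * (q.1 : F)) • e F q.2.1 :=
    act_zG_e_of_source hr' hq'
  constructor
  · rw [nG, act_mul, act_mul, ea, act_add, act_smul, ea', eb', act_add, act_smul, act_add, act_smul, ea, eb]
    funext d
    simp only [Pi.add_apply, Pi.smul_apply, smul_eq_mul]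
    have h1 : c * c⁻¹ = 1 := mul_inv_cancel₀ hc
    linear_combination (-(e F q.2.1 d) * (q.1 : F) * (q.1 : F) - (c * (q.1 : F)) * e F q.2.2 d * (q.1 : F) * (q.1 : F)) * h1 + (-(e F q.2.1 d) - c * (q.1 : F) * e F q.2.2 d) * hs2
  · rw [nG, act_mul, act_mul, eb, eb', act_add, act_smul, eb, ea]
    funext d
    simp only [Pi.add_apply, Pi.smul_apply, smul_eq_mul]
    have h1 : c * c⁻¹ = 1 := mul_inv_cancel₀ hc
    linear_combination (-(e F q.2.2 d) * (q.1 : F) * (q.1 : F)) * h1 - (e F q.2.2 d) * hs2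

theorem act_hG_target {r : ℕ} (hr : r < 72) {q : ℤ × I27 × I27} (hq : q ∈ tabr r) {c : F} (hc : c ≠ 0) :
    act (hG r c) (e F q.2.2) = c • e F q.2.2 := by
  obtain ⟨hs, -, -, -⟩ := tab_facts hr hq
  have hs2 : (q.1 : F) * (q.1 : F) = 1 := by rcases hs with hs | hs <;> rw [hs] <;> simp
  rw [hG, act_mul, (act_nG_source hr hq (neg_ne_zero.2 one_ne_zero)).2, act_smul, (act_nG_source hr hq hc).1]
  rw [smul_smul]
  congr 1
  rw [inv_neg, neg_neg, inv_one]
  linear_combination c * hs2

/-! ### The elimination step -/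

/-- `act g` fixes the basis vectors of the weights in `W`. -/
def Fixes (W : List I27) (g : GL I27 F) : Prop := ∀ w ∈ W, act g (e F w) = e F w

/-- The elements of `G0` that fix the basis vectors of the weights in `W`. -/
def KW (G0 : Subgroup (GL I27 F)) (W : List I27) : Subgroup (GL I27 F) where
  carrier := {h | h ∈ G0 ∧ Fixes W h}
  one_mem' := ⟨G0.one_mem, fun w _ => act_one _⟩
  mul_mem' {a b} ha hb := ⟨G0.mul_mem ha.1 hb.1, fun w hw => by rw [act_mul, hb.2 w hw, ha.2 w hw]⟩
  inv_mem' {a} ha := ⟨G0.inv_mem ha.1, fun w hw => by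
    have := act_inv_act a (e F w)
    rwa [ha.2 w hw] at this⟩

theorem Fixes.mul {W : List I27} {g h : GL I27 F} (hg : Fixes W g) (hh : Fixes W h) : Fixes W (g * h) :=
  fun w hw => by rw [act_mul, hh w hw, hg w hw]

/-- `tri` is invariant. -/
theorem tri_act {g : GL I27 F} (hg : g ∈ E6univ F) (x y z : I27 → F) : tri (act g x) (act g y) (act g z) = tri x y z :=
  tri_mulVec hg x y z

/-- Coordinates of `g e_l` at weights non-collinear with a fixed weight collinear with `l` vanish. -/
theorem apply_eq_zero {g : GL I27 F} (hg : g ∈ E6univ F) {w l a : I27} (hw : act g (e F w) = e F w)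
    (hwl : nc w l = false) (hwa : nc w a = true) : act g (e F l) a = 0 := by
  obtain ⟨-, h1, h2, -, -⟩ := (th_facts w a).1 hwa
  have h3 : tri (e F w) (act g (e F l)) (e F (th w a)) = 0 := by
    have h4 := tri_act hg (e F w) (e F l) (act g⁻¹ (e F (th w a)))
    rw [hw, act_act_inv, tri_e_e, if_neg (by simp [hwl])] at h4
    exact h4
  rw [tri_comm23, tri_e_e, if_pos h1, h2] at h3
  exact (mul_eq_zero.1 h3).resolve_left (sg_ne_zero h1)

/-- Coordinate of `g e_l` at `l` if `l` is the third weight of two fixed weights. -/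
theorem apply_third {g : GL I27 F} (hg : g ∈ E6univ F) {w₁ w₂ : I27} (h1 : act g (e F w₁) = e F w₁)
    (h2 : act g (e F w₂) = e F w₂) (h12 : nc w₁ w₂ = true) : act g (e F (th w₁ w₂)) (th w₁ w₂) = 1 := by
  have h3 := tri_act hg (e F w₁) (e F w₂) (e F (th w₁ w₂))
  rw [h1, h2, tri_e_e, tri_e_e, if_pos h12, if_pos h12, e_self] at h3
  exact mul_left_cancel₀ (sg_ne_zero h12) h3

/-- If `w` is fixed and non-collinear with `l` then `g e_l` has a non-zero coordinate at some weight non-collinear
with `w`. -/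
theorem exists_nc_apply_ne_zero {g : GL I27 F} (hg : g ∈ E6univ F) {w l : I27} (hw : act g (e F w) = e F w)
    (hwl : nc w l = true) : ∃ a, nc w a = true ∧ act g (e F l) a ≠ 0 := by
  by_contra hcon
  push Not at hcon
  have h3 := tri_act hg (e F w) (e F l) (e F (th w l))
  rw [hw, tri_e_e, if_pos hwl, e_self, mul_one] at h3
  apply sg_ne_zero (F := F) hwl
  rw [← h3, tri_formula]
  refine Finset.sum_eq_zero fun a _ => Finset.sum_eq_zero fun b _ => ?_
  split
  · rename_i hab
    by_cases ha : a = w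
    · subst ha
      rw [hcon b hab]; ring
    · rw [e_ne ha]; ring
  · rfl

/-- If `g` fixes the weights in `W` and `l ∉ W`, then `g e_l` has a non-zero coordinate outside `W`. -/
theorem exists_not_mem_apply_ne_zero {g : GL I27 F} {W : List I27} (hW : Fixes W g) {l : I27} (hl : l ∉ W) :
    ∃ a, a ∉ W ∧ act g (e F l) a ≠ 0 := by
  classical
  by_contra hcon
  push Not at hcon
  set x := act g (e F l) with hx
  have h1 : x = ∑ a, x a • e F a := by
    funext d
    rw [Finset.sum_apply, Finset.sum_eq_single d]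
    · rw [Pi.smul_apply, smul_eq_mul, e_self, mul_one]
    · intro b _ hb
      rw [Pi.smul_apply, e_ne (Ne.symm hb), smul_zero]
    · intro h; exact absurd (Finset.mem_univ _) h
  have h2 : act g⁻¹ x = ∑ a, x a • act g⁻¹ (e F a) := by
    conv_lhs => rw [h1]
    rw [act, Matrix.mulVec_sum]
    exact Finset.sum_congr rfl fun a _ => act_smul _ _ _
  have h3 : ∀ a, x a • act g⁻¹ (e F a) = x a • e F a := by
    intro a
    by_cases ha : a ∈ W
    · congr 1
      have := act_inv_act g (e F a)
      rwa [hW a ha] at this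
    · rw [hcon a ha, zero_smul, zero_smul]
  rw [hx, act_inv_act, ← hx] at h2
  have h4 : e F l = x := by
    rw [h2, Finset.sum_congr rfl fun a _ => h3 a, ← h1]
  have h5 := hcon l hl
  rw [← h4, e_self] at h5
  exact one_ne_zero h5

/-- A root step from `a` to `c` fixing all of `W`. -/
def stepOK (W : List I27) (a c : I27) : Bool := (ip a c == 1) && W.all fun w => decide (ip w a ≤ ip w c)

theorem not_source {r : ℕ} (hr : r < 72) {q : ℤ × I27 × I27} (hq : q ∈ tabr r) {w : I27}
    (hw : ip w q.2.1 ≤ ip w q.2.2) : ∀ q' ∈ tabr r, q'.2.1 ≠ w := by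
  intro q' hq' he
  have h1 := ((tab_facts hr hq).2.2.2 q' hq').2.2.2 w
  rw [he, ip_self] at h1
  rcases ip_cases w q'.2.2 with h2 | h2 | h2
  · have := ((tab_facts hr hq').2.2.2 q' hq').1
    exact this (he.trans h2.2)
  · omega
  · omega

/-- Moving a non-zero coordinate along a root step. -/
theorem move {G0 : Subgroup (GL I27 F)} (hG : ∀ r < 72, ∀ t : F, zG r t ∈ G0) {W : List I27} {a c : I27}
    (h : stepOK W a c = true) {x : I27 → F} (hx : x a ≠ 0) : ∃ k ∈ KW G0 W, act k x c ≠ 0 := by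
  rw [stepOK, Bool.and_eq_true, beq_iff_eq, List.all_eq_true] at h
  obtain ⟨h1, h2⟩ := h
  by_cases hc : x c = 0
  · obtain ⟨r, hr, q, hq, hqa, hqc⟩ := exists_root h1
    refine ⟨zG r 1, ⟨hG r hr 1, fun w hw => ?_⟩, ?_⟩
    · refine act_zG_e_of_not_source hr (not_source hr hq ?_) 1
      rw [hqa, hqc]
      exact of_decide_eq_true (h2 w hw)
    · rw [← hqc, act_zG_target hr hq, hqc, hc, hqa, zero_add, one_mul]
      refine mul_ne_zero ?_ hx
      rcases (tab_facts hr hq).1 with hs | hs <;> rw [hs] <;> simp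
  · exact ⟨1, Subgroup.one_mem _, by rwa [act_one]⟩

/-- `l` can be reached from `a` by at most two root steps. -/
def reach (W : List I27) (a l : I27) : Bool :=
  (a == l) || stepOK W a l || wts.any fun c => stepOK W a c && stepOK W c l

theorem pivot {G0 : Subgroup (GL I27 F)} (hG : ∀ r < 72, ∀ t : F, zG r t ∈ G0) {W : List I27} {a l : I27}
    (h : reach W a l = true) {x : I27 → F} (hx : x a ≠ 0) : ∃ k ∈ KW G0 W, act k x l ≠ 0 := by
  rw [reach, Bool.or_eq_true, Bool.or_eq_true, beq_iff_eq, List.any_eq_true] at h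
  rcases h with (h | h) | ⟨c, -, h⟩
  · exact ⟨1, Subgroup.one_mem _, by rw [act_one, ← h]; exact hx⟩
  · exact move hG h hx
  · rw [Bool.and_eq_true] at h
    obtain ⟨k, hk, h1⟩ := move hG h.1 hx
    obtain ⟨k', hk', h2⟩ := move hG h.2 h1
    exact ⟨k' * k, Subgroup.mul_mem _ hk' hk, by rwa [act_mul]⟩

/-- One stage: the weight `l` is treated after the weights in `W`. Kind `0`: `l` is the third weight of `w₁`, `w₂ ∈ W`.
Kind `1`, `2`: from all possible non-zero coordinates `l` can be reached; `r` is a root with target `l` that neither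
starts nor ends in `W`. -/
def stageOK (W : List I27) (s : ℕ × I27 × I27 × I27 × ℕ) : Bool :=
  match s with
  | (k, l, w₁, w₂, r) =>
    !(W.contains l) && (
    if k = 0 then W.contains w₁ && W.contains w₂ && nc w₁ w₂ && (th w₁ w₂ == l)
    else (decide (r < 72)) && ((tabr r).any fun q => q.2.2 == l) &&
      ((tabr r).all fun q => !(W.contains q.2.1) && !(W.contains q.2.2)) &&
      if k = 1 then wts.all fun a => W.contains a || (W.any fun w => !(nc w l) && nc w a) || reach W a l
      else W.contains w₁ && nc w₁ l &&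
        wts.all fun a => !(nc w₁ a) || (W.any fun w => !(nc w l) && nc w a) || reach W a l)

theorem stage (hs : ∃ s : F, s ≠ 0 ∧ s ≠ 1) {G0 : Subgroup (GL I27 F)} (hle : G0 ≤ E6univ F)
    (hG : ∀ r < 72, ∀ t : F, zG r t ∈ G0) {W : List I27} {s : ℕ × I27 × I27 × I27 × ℕ}
    (hst : stageOK W s = true) {g : GL I27 F} (hg : g ∈ E6univ F) (hW : Fixes W g) :
    ∃ h ∈ G0, Fixes (s.2.1 :: W) (h * g) := by
  obtain ⟨k, l, w₁, w₂, r⟩ := s
  have hKle : KW G0 W ≤ E6univ F := fun h hh => hle hh.1
  -- elimination once the pivot is non-zero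
  have elim : ∀ g : GL I27 F, g ∈ E6univ F → Fixes W g → l ∉ W → act g (e F l) l ≠ 0 →
      ∃ h ∈ KW G0 W, act (h * g) (e F l) = act g (e F l) l • e F l := by
    intro g hg hW hlW hne
    have hsing : Singular (act g (e F l)) := (singular_e l).mulVec hs hg
    obtain ⟨h, hh, h1⟩ := eliminate hs (KW G0 W) hKle l hsing hne (by
      intro r hr q hq hql hne' t
      refine ⟨hG r hr t, fun w hw => act_zG_e_of_not_source hr ?_ t⟩
      intro q' hq' he
      have h1 := ((tab_facts hr hq).2.2.2 q' hq').2.2.2 w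
      rw [he, ip_self, hql] at h1
      have hwl : w ≠ l := fun h => hlW (h ▸ hw)
      have h3 := (tab_facts hr hq').2.1
      rw [he] at h3
      have h2 : ip w l = 1 ∧ ip w q.2.2 = -2 := by
        rcases ip_cases w l with h4 | h4 | h4
        · exact absurd h4.2 hwl
        · rcases ip_cases w q.2.2 with h5 | h5 | h5 <;> constructor <;> omega
        · rcases ip_cases w q.2.2 with h5 | h5 | h5 <;> omega
      have h6 : nc w l = false := by
        rcases ip_cases w l with h4 | h4 | h4
        · exact absurd h4.2 hwl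
        · exact h4.2.2
        · omega
      have h7 : nc w q.2.2 = true := by
        rcases ip_cases w q.2.2 with h4 | h4 | h4
        · omega
        · omega
        · exact h4.2.2
      exact hne' (apply_eq_zero hg (hW w hw) h6 h7))
    exact ⟨h, hh, by rw [act_mul, h1]⟩
  rw [stageOK, Bool.and_eq_true] at hst
  obtain ⟨hlW, hst⟩ := hst
  have hlW : l ∉ W := by simpa using hlW
  by_cases hk : k = 0
  · rw [if_pos hk, Bool.and_eq_true, Bool.and_eq_true, Bool.and_eq_true, beq_iff_eq] at hst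
    obtain ⟨⟨⟨h1, h2⟩, h3⟩, h4⟩ := hst
    have h1 : w₁ ∈ W := by simpa using h1
    have h2 : w₂ ∈ W := by simpa using h2
    have h5 := apply_third hg (hW w₁ h1) (hW w₂ h2) h3
    rw [h4] at h5
    obtain ⟨h, hh, h6⟩ := elim g hg hW hlW (by rw [h5]; exact one_ne_zero)
    refine ⟨h, hh.1, fun w hw => ?_⟩
    rcases List.mem_cons.1 hw with rfl | hw
    · rw [h6, h5, one_smul]
    · exact (hh.2.mul hW) w hw
  · rw [if_neg hk, Bool.and_eq_true, Bool.and_eq_true, Bool.and_eq_true] at hst
    obtain ⟨⟨⟨hr, hrt⟩, hrW⟩, hst⟩ := hst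
    have hr : r < 72 := of_decide_eq_true hr
    -- find a non-zero coordinate and the pivot
    have hpiv : ∃ k ∈ KW G0 W, act (k * g) (e F l) l ≠ 0 := by
      have hcoll : ∀ a, act g (e F l) a ≠ 0 → (W.any fun w => !(nc w l) && nc w a) = false := by
        intro a ha
        rw [← Bool.not_eq_true, List.any_eq_true]
        rintro ⟨w, hw, h⟩
        rw [Bool.and_eq_true, Bool.not_eq_true'] at h
        exact ha (apply_eq_zero hg (hW w hw) h.1 h.2)
      by_cases hk1 : k = 1
      · rw [if_pos hk1] at hst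
        obtain ⟨a, haW, ha⟩ := exists_not_mem_apply_ne_zero hW hlW
        have h1 := forall_wts hst a
        rw [hcoll a ha, Bool.or_false, Bool.or_eq_true] at h1
        rcases h1 with h1 | h1
        · exact absurd (by simpa using h1) haW
        · obtain ⟨k, hk, h2⟩ := pivot hG h1 ha
          exact ⟨k, hk, by rwa [act_mul]⟩
      · rw [if_neg hk1, Bool.and_eq_true, Bool.and_eq_true] at hst
        obtain ⟨⟨h1, h2⟩, h3⟩ := hst
        have h1 : w₁ ∈ W := by simpa using h1
        obtain ⟨a, haW, ha⟩ := exists_nc_apply_ne_zero hg (hW w₁ h1) h2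
        have h4 := forall_wts h3 a
        rw [hcoll a ha, Bool.or_false, Bool.or_eq_true, haW] at h4
        rcases h4 with h4 | h4
        · exact absurd h4 (by decide)
        · obtain ⟨k, hk, h2⟩ := pivot hG h4 ha
          exact ⟨k, hk, by rwa [act_mul]⟩
    obtain ⟨k', hk', hne⟩ := hpiv
    obtain ⟨h, hh, h6⟩ := elim (k' * g) ((E6univ F).mul_mem (hKle hk') hg) (hk'.2.mul hW) hlW hne
    set c := act (k' * g) (e F l) l with hc
    rw [List.any_eq_true] at hrt
    obtain ⟨q, hq, hql⟩ := hrt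
    rw [beq_iff_eq] at hql
    rw [List.all_eq_true] at hrW
    have hr' : 71 - r < 72 := by omega
    have hnmem : ∀ t : F, nG r t ∈ G0 := fun t => G0.mul_mem (G0.mul_mem (hG r hr _) (hG _ hr' _)) (hG r hr _)
    refine ⟨Elim.hG r c⁻¹ * (h * k'), G0.mul_mem (G0.mul_mem (hnmem _) (hnmem _)) (G0.mul_mem hh.1 hk'.1), ?_⟩
    intro w hw
    rw [mul_assoc, mul_assoc, act_mul, ← mul_assoc]
    rcases List.mem_cons.1 hw with rfl | hw
    · rw [mul_assoc, h6, act_smul, ← hql, act_hG_target hr hq (inv_ne_zero hne), hql, smul_smul,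
        mul_inv_cancel₀ hne, one_smul]
    · have h7 : act (h * k' * g) (e F w) = e F w := by
        rw [mul_assoc]
        exact (hh.2.mul (hk'.2.mul hW)) w hw
      rw [h7, act_hG_e_of_not hr]
      · intro q' hq' he
        have := hrW q' hq'
        rw [Bool.and_eq_true] at this
        have h8 := this.1
        rw [he] at h8
        simp [hw] at h8
      · intro q' hq' he
        have := hrW q' hq'
        rw [Bool.and_eq_true] at this
        have h8 := this.2
        rw [he] at h8
        simp [hw] at h8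

/-! ### The order of the weights -/

/-- The stages. -/
def stages : List (ℕ × I27 × I27 × I27 × ℕ) := [
  (1, (0, 0, 2), (0, 0, 2), (0, 0, 2), 22), (1, (1, 1, 0), (1, 1, 0), (1, 1, 0), 6), (1, (0, 2, 2), (0, 2, 2), (0, 2, 2), 0),
  (2, (1, 0, 2), (1, 1, 0), (1, 1, 0), 35), (0, (1, 2, 1), (1, 1, 0), (1, 0, 2), 0), (0, (2, 1, 0), (0, 0, 2), (1, 2, 1), 0),
  (0, (2, 1, 2), (0, 2, 2), (1, 2, 1), 0), (1, (0, 1, 1), (0, 1, 1), (0, 1, 1), 63), (0, (0, 2, 0), (0, 0, 2), (0, 1, 1), 0),
  (0, (2, 0, 1), (1, 1, 0), (0, 1, 1), 0), (0, (0, 0, 0), (0, 2, 2), (0, 1, 1), 0), (0, (2, 2, 2), (1, 0, 2), (0, 2, 0), 0),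
  (0, (1, 2, 2), (0, 2, 2), (2, 2, 2), 0), (0, (2, 2, 0), (0, 0, 2), (1, 2, 2), 0), (0, (1, 0, 1), (1, 1, 0), (1, 2, 2), 0),
  (1, (2, 1, 1), (2, 1, 1), (2, 1, 1), 21), (0, (0, 1, 2), (1, 2, 1), (2, 1, 1), 0), (0, (1, 1, 1), (0, 1, 1), (2, 1, 1), 0),
  (0, (1, 2, 0), (1, 0, 2), (1, 1, 1), 0), (0, (2, 0, 0), (0, 0, 2), (1, 2, 0), 0), (0, (0, 0, 1), (1, 1, 0), (2, 0, 0), 0),
  (0, (2, 0, 2), (0, 2, 2), (1, 2, 0), 0), (0, (0, 2, 1), (1, 1, 0), (2, 0, 2), 0), (0, (0, 1, 0), (0, 0, 2), (0, 2, 1), 0),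
  (0, (2, 2, 1), (1, 0, 2), (0, 1, 0), 0), (0, (1, 1, 2), (0, 1, 1), (2, 2, 1), 0), (0, (1, 0, 0), (1, 2, 1), (1, 1, 2), 0)]

/-- Check of all stages. -/
def checkAll : List I27 → List (ℕ × I27 × I27 × I27 × ℕ) → Bool
  | W, [] => wts.all fun a => W.contains a
  | W, s :: S => stageOK W s && checkAll (s.2.1 :: W) S

theorem checkAll_stages : checkAll [] stages = true := by decide +kernel

theorem main (hs : ∃ s : F, s ≠ 0 ∧ s ≠ 1) {G0 : Subgroup (GL I27 F)} (hle : G0 ≤ E6univ F)
    (hG : ∀ r < 72, ∀ t : F, zG r t ∈ G0) (S : List (ℕ × I27 × I27 × I27 × ℕ)) :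
    ∀ (W : List I27), checkAll W S = true → ∀ g ∈ E6univ F, Fixes W g → g ∈ G0 := by
  induction S with
  | nil =>
    intro W hW g _ hfix
    rw [checkAll] at hW
    have : g = 1 := eq_one_of_act fun a => hfix a (by simpa using forall_wts hW a)
    rw [this]; exact G0.one_mem
  | cons s S ih =>
    intro W hW g hg hfix
    rw [checkAll, Bool.and_eq_true] at hW
    obtain ⟨h, hh, h1⟩ := stage hs hle hG hW.1 hg hfix
    have h2 := ih _ hW.2 (h * g) ((E6univ F).mul_mem (hle hh) hg) h1
    exact (Subgroup.mul_mem_cancel_left G0 hh).1 h2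

/-- **The isometry group of the cubic form is generated by the root elements.** -/
theorem E6univ_le (hs : ∃ s : F, s ≠ 0 ∧ s ≠ 1) {G0 : Subgroup (GL I27 F)} (hle : G0 ≤ E6univ F)
    (hG : ∀ r < 72, ∀ t : F, zG r t ∈ G0) : E6univ F ≤ G0 := fun g hg =>
  main hs hle hG stages [] checkAll_stages g hg fun w hw => absurd hw List.not_mem_nil

end Cfsg.Agent.ChevalleyStructure.E6Form.Elim
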