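import Cfsg.Agent.ChevalleyStructure.E6Form.Cubic

/-!
# The 72 root matrices of E₆ on the 27-dimensional module

`tab` lists, for every root `r < 72` of `chevE6` (same index), the six entries `(ε, a, b)` of the matrix `N_r`:
`N_r e_a = ε e_b`. `zG r t` is the element `1 + t N_r` of `GL I27 F`.
-/

set_option autoImplicit false

namespace Cfsg.Agent.ChevalleyStructure.E6Form.Table

open Cfsg.Lie Cfsg.Agent.ChevalleyStructure.E6Form.Cubic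

universe u

/-- The root matrices: entry `(ε, a, b)` of row `r` means `N_r e_a = ε e_b`. -/
def tab : List (List (ℤ × I27 × I27)) := [
  [(-1, (0, 1, 0), (0, 2, 0)), (-1, (0, 1, 1), (0, 2, 1)), (-1, (0, 1, 2), (0, 2, 2)), (1, (2, 0, 2), (2, 0, 1)), (1, (2, 1, 2), (2, 1, 1)), (1, (2, 2, 2), (2, 2, 1))],
  [(-1, (0, 0, 0), (0, 2, 0)), (-1, (0, 0, 1), (0, 2, 1)), (-1, (0, 0, 2), (0, 2, 2)), (1, (2, 0, 2), (2, 0, 0)), (1, (2, 1, 2), (2, 1, 0)), (1, (2, 2, 2), (2, 2, 0))],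
  [(-1, (0, 0, 2), (2, 0, 1)), (1, (0, 1, 2), (2, 0, 0)), (-1, (1, 0, 0), (0, 2, 1)), (1, (1, 1, 0), (0, 2, 0)), (-1, (2, 1, 2), (1, 2, 2)), (1, (2, 2, 2), (1, 2, 1))],
  [(-1, (0, 0, 2), (2, 1, 1)), (1, (0, 1, 2), (2, 1, 0)), (-1, (1, 0, 1), (0, 2, 1)), (1, (1, 1, 1), (0, 2, 0)), (1, (2, 0, 2), (1, 2, 2)), (-1, (2, 2, 2), (1, 2, 0))],
  [(-1, (0, 0, 2), (2, 2, 1)), (1, (0, 1, 2), (2, 2, 0)), (-1, (1, 0, 2), (0, 2, 1)), (1, (1, 1, 2), (0, 2, 0)), (-1, (2, 0, 2), (1, 2, 1)), (1, (2, 1, 2), (1, 2, 0))],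
  [(-1, (0, 0, 1), (2, 0, 1)), (1, (0, 1, 1), (2, 0, 0)), (1, (1, 0, 0), (0, 2, 2)), (-1, (1, 2, 0), (0, 2, 0)), (-1, (2, 1, 2), (1, 1, 2)), (1, (2, 2, 2), (1, 1, 1))],
  [(-1, (0, 0, 1), (2, 1, 1)), (1, (0, 1, 1), (2, 1, 0)), (1, (1, 0, 1), (0, 2, 2)), (-1, (1, 2, 1), (0, 2, 0)), (1, (2, 0, 2), (1, 1, 2)), (-1, (2, 2, 2), (1, 1, 0))],
  [(-1, (0, 0, 1), (2, 2, 1)), (1, (0, 1, 1), (2, 2, 0)), (1, (1, 0, 2), (0, 2, 2)), (-1, (1, 2, 2), (0, 2, 0)), (-1, (2, 0, 2), (1, 1, 1)), (1, (2, 1, 2), (1, 1, 0))],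
  [(-1, (0, 1, 1), (1, 2, 2)), (1, (0, 1, 2), (1, 1, 2)), (-1, (1, 0, 0), (2, 1, 1)), (1, (1, 0, 1), (2, 0, 1)), (1, (2, 2, 0), (0, 2, 0)), (-1, (2, 2, 2), (0, 0, 0))],
  [(1, (0, 1, 1), (1, 2, 1)), (-1, (0, 1, 2), (1, 1, 1)), (-1, (1, 0, 0), (2, 2, 1)), (1, (1, 0, 2), (2, 0, 1)), (-1, (2, 1, 0), (0, 2, 0)), (1, (2, 1, 2), (0, 0, 0))],
  [(-1, (0, 1, 1), (1, 2, 0)), (1, (0, 1, 2), (1, 1, 0)), (-1, (1, 0, 1), (2, 2, 1)), (1, (1, 0, 2), (2, 1, 1)), (1, (2, 0, 0), (0, 2, 0)), (-1, (2, 0, 2), (0, 0, 0))],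
  [(-1, (0, 0, 1), (1, 2, 2)), (1, (0, 0, 2), (1, 1, 2)), (-1, (1, 0, 0), (2, 1, 0)), (1, (1, 0, 1), (2, 0, 0)), (-1, (2, 2, 1), (0, 2, 0)), (1, (2, 2, 2), (0, 1, 0))],
  [(1, (0, 0, 1), (1, 2, 1)), (-1, (0, 0, 2), (1, 1, 1)), (-1, (1, 0, 0), (2, 2, 0)), (1, (1, 0, 2), (2, 0, 0)), (1, (2, 1, 1), (0, 2, 0)), (-1, (2, 1, 2), (0, 1, 0))],
  [(-1, (0, 0, 1), (1, 2, 0)), (1, (0, 0, 2), (1, 1, 0)), (-1, (1, 0, 1), (2, 2, 0)), (1, (1, 0, 2), (2, 1, 0)), (-1, (2, 0, 1), (0, 2, 0)), (1, (2, 0, 2), (0, 1, 0))],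
  [(1, (0, 0, 2), (0, 0, 0)), (1, (0, 1, 2), (0, 1, 0)), (1, (0, 2, 2), (0, 2, 0)), (-1, (1, 0, 0), (1, 2, 0)), (-1, (1, 0, 1), (1, 2, 1)), (-1, (1, 0, 2), (1, 2, 2))],
  [(1, (0, 0, 1), (0, 0, 0)), (1, (0, 1, 1), (0, 1, 0)), (1, (0, 2, 1), (0, 2, 0)), (-1, (1, 0, 0), (1, 1, 0)), (-1, (1, 0, 1), (1, 1, 1)), (-1, (1, 0, 2), (1, 1, 2))],
  [(1, (0, 0, 0), (2, 0, 1)), (-1, (0, 1, 0), (2, 0, 0)), (1, (1, 1, 0), (0, 2, 2)), (-1, (1, 2, 0), (0, 2, 1)), (1, (2, 1, 2), (1, 0, 2)), (-1, (2, 2, 2), (1, 0, 1))],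
  [(1, (0, 0, 0), (2, 1, 1)), (-1, (0, 1, 0), (2, 1, 0)), (1, (1, 1, 1), (0, 2, 2)), (-1, (1, 2, 1), (0, 2, 1)), (-1, (2, 0, 2), (1, 0, 2)), (1, (2, 2, 2), (1, 0, 0))],
  [(1, (0, 0, 0), (2, 2, 1)), (-1, (0, 1, 0), (2, 2, 0)), (1, (1, 1, 2), (0, 2, 2)), (-1, (1, 2, 2), (0, 2, 1)), (1, (2, 0, 2), (1, 0, 1)), (-1, (2, 1, 2), (1, 0, 0))],
  [(1, (0, 1, 0), (1, 2, 2)), (-1, (0, 1, 2), (1, 0, 2)), (-1, (1, 1, 0), (2, 1, 1)), (1, (1, 1, 1), (2, 0, 1)), (1, (2, 2, 0), (0, 2, 1)), (-1, (2, 2, 2), (0, 0, 1))],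
  [(-1, (0, 1, 0), (1, 2, 1)), (1, (0, 1, 2), (1, 0, 1)), (-1, (1, 1, 0), (2, 2, 1)), (1, (1, 1, 2), (2, 0, 1)), (-1, (2, 1, 0), (0, 2, 1)), (1, (2, 1, 2), (0, 0, 1))],
  [(1, (0, 1, 0), (1, 2, 0)), (-1, (0, 1, 2), (1, 0, 0)), (-1, (1, 1, 1), (2, 2, 1)), (1, (1, 1, 2), (2, 1, 1)), (1, (2, 0, 0), (0, 2, 1)), (-1, (2, 0, 2), (0, 0, 1))],
  [(1, (0, 1, 0), (1, 1, 2)), (-1, (0, 1, 1), (1, 0, 2)), (1, (1, 2, 0), (2, 1, 1)), (-1, (1, 2, 1), (2, 0, 1)), (-1, (2, 2, 0), (0, 2, 2)), (1, (2, 2, 2), (0, 0, 2))],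
  [(-1, (0, 1, 0), (1, 1, 1)), (1, (0, 1, 1), (1, 0, 1)), (1, (1, 2, 0), (2, 2, 1)), (-1, (1, 2, 2), (2, 0, 1)), (1, (2, 1, 0), (0, 2, 2)), (-1, (2, 1, 2), (0, 0, 2))],
  [(1, (0, 1, 0), (1, 1, 0)), (-1, (0, 1, 1), (1, 0, 0)), (1, (1, 2, 1), (2, 2, 1)), (-1, (1, 2, 2), (2, 1, 1)), (-1, (2, 0, 0), (0, 2, 2)), (1, (2, 0, 2), (0, 0, 2))],
  [(1, (0, 1, 0), (0, 0, 0)), (1, (0, 1, 1), (0, 0, 1)), (1, (0, 1, 2), (0, 0, 2)), (-1, (2, 0, 0), (2, 0, 1)), (-1, (2, 1, 0), (2, 1, 1)), (-1, (2, 2, 0), (2, 2, 1))],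
  [(1, (0, 0, 0), (1, 2, 2)), (-1, (0, 0, 2), (1, 0, 2)), (-1, (1, 1, 0), (2, 1, 0)), (1, (1, 1, 1), (2, 0, 0)), (-1, (2, 2, 1), (0, 2, 1)), (1, (2, 2, 2), (0, 1, 1))],
  [(-1, (0, 0, 0), (1, 2, 1)), (1, (0, 0, 2), (1, 0, 1)), (-1, (1, 1, 0), (2, 2, 0)), (1, (1, 1, 2), (2, 0, 0)), (1, (2, 1, 1), (0, 2, 1)), (-1, (2, 1, 2), (0, 1, 1))],
  [(1, (0, 0, 0), (1, 2, 0)), (-1, (0, 0, 2), (1, 0, 0)), (-1, (1, 1, 1), (2, 2, 0)), (1, (1, 1, 2), (2, 1, 0)), (-1, (2, 0, 1), (0, 2, 1)), (1, (2, 0, 2), (0, 1, 1))],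
  [(1, (0, 0, 2), (0, 0, 1)), (1, (0, 1, 2), (0, 1, 1)), (1, (0, 2, 2), (0, 2, 1)), (-1, (1, 1, 0), (1, 2, 0)), (-1, (1, 1, 1), (1, 2, 1)), (-1, (1, 1, 2), (1, 2, 2))],
  [(-1, (0, 0, 0), (1, 1, 2)), (1, (0, 0, 1), (1, 0, 2)), (-1, (1, 2, 0), (2, 1, 0)), (1, (1, 2, 1), (2, 0, 0)), (-1, (2, 2, 1), (0, 2, 2)), (1, (2, 2, 2), (0, 1, 2))],
  [(1, (0, 0, 0), (1, 1, 1)), (-1, (0, 0, 1), (1, 0, 1)), (-1, (1, 2, 0), (2, 2, 0)), (1, (1, 2, 2), (2, 0, 0)), (1, (2, 1, 1), (0, 2, 2)), (-1, (2, 1, 2), (0, 1, 2))],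
  [(-1, (0, 0, 0), (1, 1, 0)), (1, (0, 0, 1), (1, 0, 0)), (-1, (1, 2, 1), (2, 2, 0)), (1, (1, 2, 2), (2, 1, 0)), (-1, (2, 0, 1), (0, 2, 2)), (1, (2, 0, 2), (0, 1, 2))],
  [(-1, (1, 0, 0), (1, 0, 2)), (-1, (1, 1, 0), (1, 1, 2)), (-1, (1, 2, 0), (1, 2, 2)), (1, (2, 2, 0), (2, 0, 0)), (1, (2, 2, 1), (2, 0, 1)), (1, (2, 2, 2), (2, 0, 2))],
  [(1, (1, 0, 0), (1, 0, 1)), (1, (1, 1, 0), (1, 1, 1)), (1, (1, 2, 0), (1, 2, 1)), (-1, (2, 1, 0), (2, 0, 0)), (-1, (2, 1, 1), (2, 0, 1)), (-1, (2, 1, 2), (2, 0, 2))],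
  [(1, (1, 0, 1), (1, 0, 2)), (1, (1, 1, 1), (1, 1, 2)), (1, (1, 2, 1), (1, 2, 2)), (-1, (2, 2, 0), (2, 1, 0)), (-1, (2, 2, 1), (2, 1, 1)), (-1, (2, 2, 2), (2, 1, 2))],
  [(1, (1, 0, 2), (1, 0, 1)), (1, (1, 1, 2), (1, 1, 1)), (1, (1, 2, 2), (1, 2, 1)), (-1, (2, 1, 0), (2, 2, 0)), (-1, (2, 1, 1), (2, 2, 1)), (-1, (2, 1, 2), (2, 2, 2))],
  [(1, (1, 0, 1), (1, 0, 0)), (1, (1, 1, 1), (1, 1, 0)), (1, (1, 2, 1), (1, 2, 0)), (-1, (2, 0, 0), (2, 1, 0)), (-1, (2, 0, 1), (2, 1, 1)), (-1, (2, 0, 2), (2, 1, 2))],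
  [(-1, (1, 0, 2), (1, 0, 0)), (-1, (1, 1, 2), (1, 1, 0)), (-1, (1, 2, 2), (1, 2, 0)), (1, (2, 0, 0), (2, 2, 0)), (1, (2, 0, 1), (2, 2, 1)), (1, (2, 0, 2), (2, 2, 2))],
  [(1, (0, 1, 2), (2, 0, 2)), (-1, (0, 2, 2), (2, 0, 1)), (1, (1, 0, 0), (0, 0, 1)), (-1, (1, 1, 0), (0, 0, 0)), (1, (2, 1, 0), (1, 2, 2)), (-1, (2, 2, 0), (1, 2, 1))],
  [(-1, (0, 1, 2), (2, 1, 2)), (1, (0, 2, 2), (2, 1, 1)), (-1, (1, 0, 1), (0, 0, 1)), (1, (1, 1, 1), (0, 0, 0)), (1, (2, 0, 0), (1, 2, 2)), (-1, (2, 2, 0), (1, 2, 0))],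
  [(1, (0, 1, 2), (2, 2, 2)), (-1, (0, 2, 2), (2, 2, 1)), (1, (1, 0, 2), (0, 0, 1)), (-1, (1, 1, 2), (0, 0, 0)), (1, (2, 0, 0), (1, 2, 1)), (-1, (2, 1, 0), (1, 2, 0))],
  [(1, (0, 0, 1), (0, 0, 2)), (1, (0, 1, 1), (0, 1, 2)), (1, (0, 2, 1), (0, 2, 2)), (-1, (1, 2, 0), (1, 1, 0)), (-1, (1, 2, 1), (1, 1, 1)), (-1, (1, 2, 2), (1, 1, 2))],
  [(1, (0, 1, 1), (2, 0, 2)), (-1, (0, 2, 1), (2, 0, 1)), (-1, (1, 0, 0), (0, 0, 2)), (1, (1, 2, 0), (0, 0, 0)), (1, (2, 1, 0), (1, 1, 2)), (-1, (2, 2, 0), (1, 1, 1))],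
  [(-1, (0, 1, 1), (2, 1, 2)), (1, (0, 2, 1), (2, 1, 1)), (1, (1, 0, 1), (0, 0, 2)), (-1, (1, 2, 1), (0, 0, 0)), (1, (2, 0, 0), (1, 1, 2)), (-1, (2, 2, 0), (1, 1, 0))],
  [(1, (0, 1, 1), (2, 2, 2)), (-1, (0, 2, 1), (2, 2, 1)), (-1, (1, 0, 2), (0, 0, 2)), (1, (1, 2, 2), (0, 0, 0)), (1, (2, 0, 0), (1, 1, 1)), (-1, (2, 1, 0), (1, 1, 0))],
  [(1, (0, 0, 0), (0, 1, 0)), (1, (0, 0, 1), (0, 1, 1)), (1, (0, 0, 2), (0, 1, 2)), (-1, (2, 0, 1), (2, 0, 0)), (-1, (2, 1, 1), (2, 1, 0)), (-1, (2, 2, 1), (2, 2, 0))],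
  [(1, (0, 0, 2), (2, 0, 2)), (-1, (0, 2, 2), (2, 0, 0)), (-1, (1, 0, 0), (0, 1, 1)), (1, (1, 1, 0), (0, 1, 0)), (-1, (2, 1, 1), (1, 2, 2)), (1, (2, 2, 1), (1, 2, 1))],
  [(-1, (0, 0, 2), (2, 1, 2)), (1, (0, 2, 2), (2, 1, 0)), (1, (1, 0, 1), (0, 1, 1)), (-1, (1, 1, 1), (0, 1, 0)), (-1, (2, 0, 1), (1, 2, 2)), (1, (2, 2, 1), (1, 2, 0))],
  [(1, (0, 0, 2), (2, 2, 2)), (-1, (0, 2, 2), (2, 2, 0)), (-1, (1, 0, 2), (0, 1, 1)), (1, (1, 1, 2), (0, 1, 0)), (-1, (2, 0, 1), (1, 2, 1)), (1, (2, 1, 1), (1, 2, 0))],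
  [(-1, (0, 0, 1), (2, 0, 2)), (1, (0, 2, 1), (2, 0, 0)), (-1, (1, 0, 0), (0, 1, 2)), (1, (1, 2, 0), (0, 1, 0)), (1, (2, 1, 1), (1, 1, 2)), (-1, (2, 2, 1), (1, 1, 1))],
  [(1, (0, 0, 1), (2, 1, 2)), (-1, (0, 2, 1), (2, 1, 0)), (1, (1, 0, 1), (0, 1, 2)), (-1, (1, 2, 1), (0, 1, 0)), (1, (2, 0, 1), (1, 1, 2)), (-1, (2, 2, 1), (1, 1, 0))],
  [(-1, (0, 0, 1), (2, 2, 2)), (1, (0, 2, 1), (2, 2, 0)), (-1, (1, 0, 2), (0, 1, 2)), (1, (1, 2, 2), (0, 1, 0)), (1, (2, 0, 1), (1, 1, 1)), (-1, (2, 1, 1), (1, 1, 0))],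
  [(-1, (0, 2, 1), (1, 2, 2)), (1, (0, 2, 2), (1, 1, 2)), (-1, (1, 0, 0), (2, 1, 2)), (1, (1, 0, 1), (2, 0, 2)), (-1, (2, 2, 0), (0, 1, 0)), (1, (2, 2, 1), (0, 0, 0))],
  [(-1, (0, 2, 1), (1, 2, 1)), (1, (0, 2, 2), (1, 1, 1)), (1, (1, 0, 0), (2, 2, 2)), (-1, (1, 0, 2), (2, 0, 2)), (-1, (2, 1, 0), (0, 1, 0)), (1, (2, 1, 1), (0, 0, 0))],
  [(-1, (0, 2, 1), (1, 2, 0)), (1, (0, 2, 2), (1, 1, 0)), (-1, (1, 0, 1), (2, 2, 2)), (1, (1, 0, 2), (2, 1, 2)), (-1, (2, 0, 0), (0, 1, 0)), (1, (2, 0, 1), (0, 0, 0))],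
  [(1, (0, 0, 0), (0, 0, 1)), (1, (0, 1, 0), (0, 1, 1)), (1, (0, 2, 0), (0, 2, 1)), (-1, (1, 1, 0), (1, 0, 0)), (-1, (1, 1, 1), (1, 0, 1)), (-1, (1, 1, 2), (1, 0, 2))],
  [(1, (0, 0, 0), (0, 0, 2)), (1, (0, 1, 0), (0, 1, 2)), (1, (0, 2, 0), (0, 2, 2)), (-1, (1, 2, 0), (1, 0, 0)), (-1, (1, 2, 1), (1, 0, 1)), (-1, (1, 2, 2), (1, 0, 2))],
  [(1, (0, 1, 0), (2, 0, 2)), (-1, (0, 2, 0), (2, 0, 1)), (1, (1, 1, 0), (0, 0, 2)), (-1, (1, 2, 0), (0, 0, 1)), (1, (2, 1, 0), (1, 0, 2)), (-1, (2, 2, 0), (1, 0, 1))],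
  [(-1, (0, 1, 0), (2, 1, 2)), (1, (0, 2, 0), (2, 1, 1)), (-1, (1, 1, 1), (0, 0, 2)), (1, (1, 2, 1), (0, 0, 1)), (1, (2, 0, 0), (1, 0, 2)), (-1, (2, 2, 0), (1, 0, 0))],
  [(1, (0, 1, 0), (2, 2, 2)), (-1, (0, 2, 0), (2, 2, 1)), (1, (1, 1, 2), (0, 0, 2)), (-1, (1, 2, 2), (0, 0, 1)), (1, (2, 0, 0), (1, 0, 1)), (-1, (2, 1, 0), (1, 0, 0))],
  [(-1, (0, 0, 0), (2, 0, 2)), (1, (0, 2, 0), (2, 0, 0)), (1, (1, 1, 0), (0, 1, 2)), (-1, (1, 2, 0), (0, 1, 1)), (1, (2, 1, 1), (1, 0, 2)), (-1, (2, 2, 1), (1, 0, 1))],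
  [(1, (0, 0, 0), (2, 1, 2)), (-1, (0, 2, 0), (2, 1, 0)), (-1, (1, 1, 1), (0, 1, 2)), (1, (1, 2, 1), (0, 1, 1)), (1, (2, 0, 1), (1, 0, 2)), (-1, (2, 2, 1), (1, 0, 0))],
  [(-1, (0, 0, 0), (2, 2, 2)), (1, (0, 2, 0), (2, 2, 0)), (1, (1, 1, 2), (0, 1, 2)), (-1, (1, 2, 2), (0, 1, 1)), (1, (2, 0, 1), (1, 0, 1)), (-1, (2, 1, 1), (1, 0, 0))],
  [(-1, (0, 2, 0), (1, 2, 2)), (1, (0, 2, 2), (1, 0, 2)), (1, (1, 1, 0), (2, 1, 2)), (-1, (1, 1, 1), (2, 0, 2)), (1, (2, 2, 0), (0, 1, 1)), (-1, (2, 2, 1), (0, 0, 1))],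
  [(-1, (0, 2, 0), (1, 2, 1)), (1, (0, 2, 2), (1, 0, 1)), (-1, (1, 1, 0), (2, 2, 2)), (1, (1, 1, 2), (2, 0, 2)), (1, (2, 1, 0), (0, 1, 1)), (-1, (2, 1, 1), (0, 0, 1))],
  [(-1, (0, 2, 0), (1, 2, 0)), (1, (0, 2, 2), (1, 0, 0)), (1, (1, 1, 1), (2, 2, 2)), (-1, (1, 1, 2), (2, 1, 2)), (1, (2, 0, 0), (0, 1, 1)), (-1, (2, 0, 1), (0, 0, 1))],
  [(1, (0, 2, 0), (1, 1, 2)), (-1, (0, 2, 1), (1, 0, 2)), (1, (1, 2, 0), (2, 1, 2)), (-1, (1, 2, 1), (2, 0, 2)), (1, (2, 2, 0), (0, 1, 2)), (-1, (2, 2, 1), (0, 0, 2))],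
  [(1, (0, 2, 0), (1, 1, 1)), (-1, (0, 2, 1), (1, 0, 1)), (-1, (1, 2, 0), (2, 2, 2)), (1, (1, 2, 2), (2, 0, 2)), (1, (2, 1, 0), (0, 1, 2)), (-1, (2, 1, 1), (0, 0, 2))],
  [(1, (0, 2, 0), (1, 1, 0)), (-1, (0, 2, 1), (1, 0, 0)), (1, (1, 2, 1), (2, 2, 2)), (-1, (1, 2, 2), (2, 1, 2)), (1, (2, 0, 0), (0, 1, 2)), (-1, (2, 0, 1), (0, 0, 2))],
  [(-1, (0, 2, 0), (0, 0, 0)), (-1, (0, 2, 1), (0, 0, 1)), (-1, (0, 2, 2), (0, 0, 2)), (1, (2, 0, 0), (2, 0, 2)), (1, (2, 1, 0), (2, 1, 2)), (1, (2, 2, 0), (2, 2, 2))],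
  [(-1, (0, 2, 0), (0, 1, 0)), (-1, (0, 2, 1), (0, 1, 1)), (-1, (0, 2, 2), (0, 1, 2)), (1, (2, 0, 1), (2, 0, 2)), (1, (2, 1, 1), (2, 1, 2)), (1, (2, 2, 1), (2, 2, 2))]]

/-- The entries of `N_r`. -/
def tabr (r : ℕ) : List (ℤ × I27 × I27) := tab.getD r []

/-- All roots are in the table. -/
theorem forall_roots {p : ℕ → Bool} (h : (List.range 72).all p = true) {r : ℕ} (hr : r < 72) : p r = true :=
  List.all_eq_true.1 h r (List.mem_range.2 hr)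

/-- The pairing of a weight with a root: `-1` for the sources, `1` for the targets, `0` otherwise. -/
def pr (r : ℕ) (w : I27) : ℤ :=
  if ((tabr r).any fun q => q.2.1 == w) = true then -1 else if ((tabr r).any fun q => q.2.2 == w) = true then 1 else 0

theorem tab_facts_aux1 {r : ℕ} (hr : r < 72) {q : ℤ × I27 × I27} (hq : q ∈ tabr r) :
    (q.1 = 1 ∨ q.1 = -1) ∧ (q.1, q.2.2, q.2.1) ∈ tabr (71 - r) ∧
      ∀ w, ip w q.2.2 - ip w q.2.1 = 3 * pr r w := by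
  have h := forall_roots (p := fun r => wts.all fun w => (tabr r).all fun q =>
    (ip w q.2.2 - ip w q.2.1 == 3 * pr r w)) (by decide +kernel) hr
  have h' := forall_roots (p := fun r => (tabr r).all fun q => ((q.1 == 1) || (q.1 == -1)) &&
    ((tabr (71 - r)).contains (q.1, q.2.2, q.2.1))) (by decide +kernel) hr
  rw [List.all_eq_true] at h'
  have h1 := h' q hq
  simp only [Bool.and_eq_true, Bool.or_eq_true, beq_iff_eq, List.contains_iff_mem] at h1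
  refine ⟨h1.1, h1.2, fun w => ?_⟩
  have h2 := forall_wts h w
  rw [List.all_eq_true] at h2
  exact beq_iff_eq.1 (h2 q hq)

theorem tab_facts_aux2 {r : ℕ} (hr : r < 72) {q : ℤ × I27 × I27} (hq : q ∈ tabr r) :
    ∀ q' ∈ tabr r, q.2.1 ≠ q'.2.2 ∧ (q.2.1 = q'.2.1 → q = q') ∧ (q.2.2 = q'.2.2 → q = q') := by
  have h := forall_roots (p := fun r => (tabr r).all fun q => (tabr r).all fun q' => !(q.2.1 == q'.2.2) &&
      (!(q.2.1 == q'.2.1) || (q == q')) && (!(q.2.2 == q'.2.2) || (q == q'))) (by decide +kernel) hr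
  rw [List.all_eq_true] at h
  have h1 := h q hq
  rw [List.all_eq_true] at h1
  intro q' hq'
  have h6 := h1 q' hq'
  simp only [Bool.and_eq_true, Bool.or_eq_true, beq_iff_eq, Bool.not_eq_true', beq_eq_false_iff_ne, ne_eq] at h6
  obtain ⟨⟨h7, h8⟩, h9⟩ := h6
  refine ⟨h7, fun h => ?_, fun h => ?_⟩
  · rcases h8 with h8 | h8
    · exact absurd h h8
    · exact h8
  · rcases h9 with h9 | h9
    · exact absurd h h9
    · exact h9

theorem ip_self (a : I27) : ip a a = 4 := if_pos rfl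

/-- Basic facts on the entries of one root matrix. -/
theorem tab_facts {r : ℕ} (hr : r < 72) {q : ℤ × I27 × I27} (hq : q ∈ tabr r) :
    (q.1 = 1 ∨ q.1 = -1) ∧ ip q.2.1 q.2.2 = 1 ∧ (q.1, q.2.2, q.2.1) ∈ tabr (71 - r) ∧
      ∀ q' ∈ tabr r, q.2.1 ≠ q'.2.2 ∧ (q.2.1 = q'.2.1 → q = q') ∧ (q.2.2 = q'.2.2 → q = q') ∧
        ∀ w, ip w q.2.2 - ip w q.2.1 = ip w q'.2.2 - ip w q'.2.1 := by
  obtain ⟨h1, h2, h3⟩ := tab_facts_aux1 hr hq
  refine ⟨h1, ?_, h2, fun q' hq' => ?_⟩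
  · have h4 := h3 q.2.1
    have h5 : pr r q.2.1 = -1 := by
      rw [pr, if_pos]
      exact List.any_eq_true.2 ⟨q, hq, beq_iff_eq.2 rfl⟩
    rw [h5, ip_self] at h4
    omega
  · obtain ⟨h4, h5, h6⟩ := tab_facts_aux2 hr hq q' hq'
    refine ⟨h4, h5, h6, fun w => ?_⟩
    rw [h3 w, (tab_facts_aux1 hr hq').2.2 w]

/-- Number of a weight, below 27. -/
def code (a : I27) : ℕ := 9 * a.1.val + 3 * a.2.1.val + a.2.2.val

/-- The root `b - a` for collinear weights `a`, `b` (packed table). -/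
def rt (a b : I27) : ℕ := (14212219032467564358259905842408627770906734406538580009061166867807034247478462976664295895970582026478984828416223671914998062136499676631810423695474339540032701902737399089457635135377186206838436838000753634295095249446472454733106233156158428154353069977340386907413115529287933293462701933374142140046498764344644444603639184335306272463465609543104304796990304178712605078360983391827093605154468137478588963208670888345959196257908477950166384783419557327246770471122577874328158902657489284790417881131490160116734374119439009877073512032657667475792281693275508145369887513810633486858449748687773068940682663970848242487387307288423246196497889806031824064695598604249523143221476935882286382665707803860068224572922201014954769688034461674799092866353201015702603902967311455520059496163168970332880310492663513526604442089821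15316601170787377424712857375112234000719213395204383733891182051252807965753087898166660641841703586264362648901048102808323065384717777770670869545640963195493396826988694619456793328997760229475402530617056139033380053405029640297476350112465420195913653259953073931762646844264717921980888662431747391981901307733571919397823254352394076932816858504642209494605847824224079533460912486958270116658508421520431330238935922134350134275594952175962072173892407611543679419381925186544802772315255758755015388271578717814475795785244010989386393662219897468053386723167169629249345397408475917719540853447681630055713631567039148613155885426097218256557379586596847916976114960292684921565686422655 >>> (7 * (27 * code a + code b))) % 128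

theorem rt_lt_and_mem {a b : I27} (h : ip a b = 1) :
    rt a b < 72 ∧ ∃ q ∈ tabr (rt a b), q.2.1 = a ∧ q.2.2 = b := by
  have h1 := forall_wts (p := fun a => wts.all fun b => !(ip a b == 1) || (decide (rt a b < 72) &&
    ((tabr (rt a b)).any fun q => (q.2.1 == a) && (q.2.2 == b)))) (by decide +kernel) a
  have h2 := forall_wts h1 b
  simp only [h, beq_self_eq_true, Bool.not_true, Bool.false_or, Bool.and_eq_true, decide_eq_true_eq,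
    List.any_eq_true, beq_iff_eq] at h2
  exact h2

/-- Any two collinear weights differ by a root. -/
theorem exists_root {a b : I27} (h : ip a b = 1) : ∃ r < 72, ∃ q ∈ tabr r, q.2.1 = a ∧ q.2.2 = b :=
  ⟨rt a b, (rt_lt_and_mem h).1, (rt_lt_and_mem h).2⟩

variable {F : Type u} [Field F]

/-- `N_r v`. -/
def nv (r : ℕ) (v : I27 → F) : I27 → F := fun d =>
  ((tabr r).map fun q => if q.2.2 = d then (q.1 : F) * v q.2.1 else 0).sum

theorem sum_eq_of_unique {α : Type*} (l : List α) (f : α → F) (q : α) (hq : q ∈ l) (hnd : l.Nodup)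
    (h : ∀ q' ∈ l, q' ≠ q → f q' = 0) : (l.map f).sum = f q := by
  induction l with
  | nil => simp at hq
  | cons a l ih =>
    rw [List.map_cons, List.sum_cons]
    rw [List.nodup_cons] at hnd
    rcases List.mem_cons.1 hq with rfl | hq'
    · have : (l.map f).sum = 0 := by
        apply List.sum_eq_zero
        intro x hx
        obtain ⟨y, hy, rfl⟩ := List.mem_map.1 hx
        exact h y (List.mem_cons_of_mem _ hy) (fun he => hnd.1 (he ▸ hy))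
      rw [this, add_zero]
    · rw [h a List.mem_cons_self (fun he => hnd.1 (he ▸ hq')), zero_add]
      exact ih hq' hnd.2 fun q' h1 h2 => h q' (List.mem_cons_of_mem _ h1) h2

theorem tabr_nodup (r : ℕ) : (tabr r).Nodup := by
  by_cases hr : r < 72
  · have := forall_roots (p := fun r => decide ((tabr r).Nodup)) (by decide +kernel) hr
    exact of_decide_eq_true this
  · have : tabr r = [] := List.getD_eq_default _ _ (by simpa [tab] using hr)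
    rw [this]; exact List.nodup_nil

/-- Value of `N_r v` at a target. -/
theorem nv_target {r : ℕ} (hr : r < 72) {q : ℤ × I27 × I27} (hq : q ∈ tabr r) (v : I27 → F) :
    nv r v q.2.2 = (q.1 : F) * v q.2.1 := by
  rw [nv, sum_eq_of_unique (tabr r) _ q hq (tabr_nodup r)]
  · rw [if_pos rfl]
  · intro q' hq' hne
    refine if_neg fun he => hne ?_
    exact ((tab_facts hr hq').2.2.2 q hq).2.2.1 he

/-- Value of `N_r v` elsewhere. -/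
theorem nv_other {r : ℕ} {d : I27} (hd : ∀ q ∈ tabr r, q.2.2 ≠ d) (v : I27 → F) : nv r v d = 0 := by
  rw [nv]
  apply List.sum_eq_zero
  intro x hx
  obtain ⟨q, hq, rfl⟩ := List.mem_map.1 hx
  exact if_neg (hd q hq)

theorem nv_add (r : ℕ) (v w : I27 → F) : nv r (v + w) = nv r v + nv r w := by
  funext d
  simp only [nv, Pi.add_apply]
  generalize tabr r = l
  induction l with
  | nil => simp
  | cons q l ih =>
    simp only [List.map_cons, List.sum_cons]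
    rw [ih]
    split <;> ring

theorem nv_smul (r : ℕ) (s : F) (v : I27 → F) : nv r (s • v) = s • nv r v := by
  funext d
  simp only [nv, Pi.smul_apply, smul_eq_mul]
  generalize tabr r = l
  induction l with
  | nil => simp
  | cons q l ih =>
    simp only [List.map_cons, List.sum_cons]
    rw [ih]
    split <;> ring

/-- `N_r` as a linear map. -/
def nLin (F : Type u) [Field F] (r : ℕ) : (I27 → F) →ₗ[F] (I27 → F) where
  toFun := nv r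
  map_add' := nv_add r
  map_smul' := nv_smul r

/-- `N_r` as a matrix. -/
def nMat (F : Type u) [Field F] (r : ℕ) : Matrix I27 I27 F := LinearMap.toMatrix' (nLin F r)

theorem nMat_mulVec (r : ℕ) (v : I27 → F) : (nMat F r).mulVec v = nv r v := by
  rw [nMat, LinearMap.toMatrix'_mulVec]; rfl

/-- Entry of `N_r`: `ε` if `(ε, a, b)` is in the table (row `b`, column `a`), else `0`. -/
theorem nMat_apply (r : ℕ) (b a : I27) : nMat F r b a = nv r (e F a) b := by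
  rw [nMat, LinearMap.toMatrix'_apply]; rfl

theorem nv_nv (r : ℕ) (v : I27 → F) : nv r (nv r v) = 0 := by
  by_cases hr : r < 72
  · funext d
    by_cases hd : ∃ q ∈ tabr r, q.2.2 = d
    · obtain ⟨q, hq, rfl⟩ := hd
      rw [nv_target hr hq, nv_other]
      · simp
      · intro q' hq' he
        exact ((tab_facts hr hq).2.2.2 q' hq').1 he.symm
    · push Not at hd
      rw [nv_other hd]; rfl
  · have : tabr r = [] := List.getD_eq_default _ _ (by simpa [tab] using hr)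
    funext d
    simp [nv, this]

/-- The matrix `1 + t N_r`. -/
def zMat (F : Type u) [Field F] (r : ℕ) (t : F) : Matrix I27 I27 F := 1 + t • nMat F r

theorem zMat_mulVec (r : ℕ) (t : F) (v : I27 → F) : (zMat F r t).mulVec v = v + t • nv r v := by
  rw [zMat, Matrix.add_mulVec, Matrix.one_mulVec, Matrix.smul_mulVec, nMat_mulVec]

theorem zMat_mul (r : ℕ) (s t : F) : zMat F r s * zMat F r t = zMat F r (s + t) := by
  apply Matrix.toLin'.injective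
  refine LinearMap.ext fun v => ?_
  rw [Matrix.toLin'_apply, Matrix.toLin'_apply, ← Matrix.mulVec_mulVec, zMat_mulVec, zMat_mulVec, zMat_mulVec,
    nv_add, nv_smul, nv_nv]
  simp only [smul_zero, add_zero, add_smul]
  rw [add_assoc, add_comm (t • _)]

theorem zMat_zero (r : ℕ) : zMat F r 0 = 1 := by rw [zMat, zero_smul, add_zero]

/-- The root element `1 + t N_r` of `GL I27 F`. -/
def zG (r : ℕ) (t : F) : GL I27 F where
  val := zMat F r t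
  inv := zMat F r (-t)
  val_inv := by rw [zMat_mul, add_neg_cancel, zMat_zero]
  inv_val := by rw [zMat_mul, neg_add_cancel, zMat_zero]

theorem coe_zG (r : ℕ) (t : F) : ((zG r t : GL I27 F) : Matrix I27 I27 F) = zMat F r t := rfl

/-- Action of an element of `GL` on a column vector. -/
def act (g : GL I27 F) (v : I27 → F) : I27 → F := (g : Matrix I27 I27 F).mulVec v

theorem act_mul (g h : GL I27 F) (v : I27 → F) : act (g * h) v = act g (act h v) := by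
  rw [act, act, act, Units.val_mul, Matrix.mulVec_mulVec]

theorem act_one (v : I27 → F) : act (1 : GL I27 F) v = v := by rw [act, Units.val_one, Matrix.one_mulVec]

theorem act_add (g : GL I27 F) (v w : I27 → F) : act g (v + w) = act g v + act g w := Matrix.mulVec_add _ _ _

theorem act_smul (g : GL I27 F) (s : F) (v : I27 → F) : act g (s • v) = s • act g v := Matrix.mulVec_smul _ _ _

theorem act_inv_act (g : GL I27 F) (v : I27 → F) : act g⁻¹ (act g v) = v := by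
  rw [← act_mul, inv_mul_cancel, act_one]

theorem act_act_inv (g : GL I27 F) (v : I27 → F) : act g (act g⁻¹ v) = v := by
  rw [← act_mul, mul_inv_cancel, act_one]

theorem act_zG (r : ℕ) (t : F) (v : I27 → F) : act (zG r t) v = v + t • nv r v := zMat_mulVec r t v

theorem eq_one_of_act {g : GL I27 F} (h : ∀ a, act g (e F a) = e F a) : g = 1 := by
  apply Units.ext
  ext b a
  have := congrFun (h a) b
  rw [act, e, Matrix.mulVec_single_one] at this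
  rw [Units.val_one, Matrix.one_apply]
  rw [Matrix.col_apply] at this
  rw [this, Pi.single_apply]

end Cfsg.Agent.ChevalleyStructure.E6Form.Table
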